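import Cfsg.Agent.H708.O8.Defs
import Cfsg.Agent.H262.ElOrd

/-!
# COV-O8+: subfields (piece G4, helper781)

`kill_subf` : an element `g` of order `r` with `dim [V, g] = 4` is in no subfield subgroup.
-/

set_option autoImplicit false
set_option linter.unusedSectionVars false

namespace Cfsg.Agent.H781.O8

open Module QuadraticMap Cfsg Cfsg.Geo
open Cfsg.Agent.H951 (fx cm Inv)
open Cfsg.Agent.H884.El
open Cfsg.Agent.H436 (Prim)
open Cfsg.Agent.H708.O8 (I8 RB)
open scoped MatrixGroups Matrix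

/-- `PP` from `Prim` -/
theorem pp_of_prim {q e r : ℕ} (h : Prim q e r) : PP q e r := by
  refine ⟨h.prime, ?_⟩
  have hq : 1 ≤ q := by
    rcases Nat.eq_zero_or_pos q with rfl | h1
    · exact absurd (dvd_zero r) h.not_dvd
    · exact h1
  have key : ∀ m : ℕ, (q : ZMod r) ^ m = 1 ↔ e ∣ m := by
    intro m
    rw [← h.dvd_iff m, ← ZMod.natCast_eq_zero_iff, Nat.cast_sub (Nat.one_le_pow _ _ hq)]
    push_cast
    rw [sub_eq_zero]
  apply Nat.dvd_antisymm
  · exact orderOf_dvd_of_pow_eq_one ((key e).2 dvd_rfl)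
  · exact (key _).1 (pow_orderOf_eq_one _)

theorem RB.pp {p a r b : ℕ} (h : RB p a r b) : PP p (4 * a) r := pp_of_prim h.prim

section

variable {F : Type} [Field F] [Fintype F] {p a r b : ℕ}

/-- the order of `q` modulo `r` is four -/
theorem RB.pp4 (hF : Nat.card F = p ^ a) (h : RB p a r b) : PP (Nat.card F) 4 r := by
  rw [hF]
  have h1 := RB.pp h
  rw [mul_comm] at h1
  exact PP.of_pow h1 h.ha

theorem isUnit_toLin' {K : Type} [Field K] {M : Matrix I8 I8 K} : IsUnit (Matrix.toLin' M) ↔ IsUnit M := by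
  constructor
  · intro h
    have h1 := h.map (Matrix.toLinAlgEquiv' (R := K) (n := I8)).symm
    have e : (Matrix.toLinAlgEquiv' (R := K) (n := I8)).symm (Matrix.toLin' M) = M := by
      apply (Matrix.toLinAlgEquiv' (R := K) (n := I8)).injective
      rw [AlgEquiv.apply_symm_apply]
      rfl
    rwa [e] at h1
  · intro h
    exact h.map (Matrix.toLinAlgEquiv' (R := K) (n := I8))

/-- **Subfields.** -/
theorem kill_subf (hF : Nat.card F = p ^ a) (h : RB p a r b) {F₁ : Subfield F} {B : GL I8 F} {H : Subgroup (GL I8 F)}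
    (hH : H ≤ subfieldSubgroup F₁ B)
    {s : ℕ} (hs : s.Prime) (hcard : Nat.card F = Nat.card F₁ ^ s) {g : GL I8 F} (hg : g ∈ H) (hgr : g ^ r = 1)
    (hd : finrank F (cm (lin g)) = 4) : False := by
  classical
  have hr4 := RB.pp4 hF h
  have hq := Finite.one_lt_card (α := F)
  have hrp : ¬ r ∣ Nat.card F - 1 := by
    intro h1
    have h2 := (hr4.dvd_iff (by omega) 1).1 (by rwa [pow_one])
    omega
  -- `|F₁| = p ^ c`
  obtain ⟨c, -, hc⟩ : ∃ c ≤ a, Nat.card F₁ = p ^ c := by
    have h1 : Nat.card F₁ ∣ p ^ a := by rw [← hF, hcard]; exact dvd_pow_self _ hs.ne_zero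
    exact (Nat.dvd_prime_pow h.hp).1 h1
  have hac : a = c * s := by
    have h1 : p ^ a = p ^ (c * s) := by rw [← hF, hcard, hc, pow_mul]
    exact Nat.pow_right_injective h.hp.two_le h1
  have ha := h.ha
  have hc1 : 1 ≤ c := by
    rcases Nat.eq_zero_or_pos c with rfl | h1
    · rw [zero_mul] at hac; omega
    · exact h1
  have hr1 : PP (Nat.card F₁) (4 * s) r := by
    rw [hc]
    have h1 := RB.pp h
    rw [hac, show 4 * (c * s) = c * (4 * s) by ring] at h1
    exact PP.of_pow h1 hc1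
  -- the decomposition
  obtain ⟨y, hy, rfl⟩ := hH hg
  obtain ⟨a', ⟨g0, hg0⟩, z, hz, hyz⟩ := Subgroup.mem_sup_of_normal_right.1 hy
  have hco : Nat.Coprime r (Nat.card F - 1) := (Nat.Prime.coprime_iff_not_dvd h.prim.prime).2 hrp
  obtain ⟨m, hm1, hm2⟩ := Nat.chineseRemainder hco 1 0
  have hm2' : Nat.card F - 1 ∣ m := (Nat.modEq_zero_iff_dvd).1 hm2
  have hyr : y ^ r = 1 := by
    have h1 : (MulAut.conj B) (y ^ r) = 1 := by
      rw [map_pow]
      exact hgr
    exact (MulAut.conj B).injective (by rw [h1, map_one])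
  have hym : y ^ m = y := by
    have h1 : y ^ m = y ^ 1 := by
      rw [← pow_mod_orderOf, ← pow_mod_orderOf y 1]
      congr 1
      exact hm1.of_dvd (orderOf_dvd_of_pow_eq_one hyr)
    rwa [pow_one] at h1
  have hzm : z ^ m = 1 := by
    obtain ⟨k, rfl⟩ := hm2'
    rw [pow_mul, Nat.card_eq_fintype_card, H262.El.scalar_pow_card hz, one_pow]
  have hmap : y = Matrix.GeneralLinearGroup.map (F₁.subtype : F₁ →+* F) (g0 ^ m) := by
    rw [← hym, ← hyz, (H262.El.scalar_comm hz a').symm.mul_pow, hzm, mul_one, ← hg0, map_pow]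
  obtain ⟨g1, hg1⟩ : ∃ g1, g1 = g0 ^ m := ⟨_, rfl⟩
  rw [← hg1] at hmap
  have hinj : Function.Injective (Matrix.GeneralLinearGroup.map (n := I8) (F₁.subtype : F₁ →+* F)) := by
    intro u v huv
    apply Units.ext
    ext i j
    have h1 := congrArg (fun t : GL I8 F => (t : Matrix I8 I8 F) i j) huv
    exact h1
  have hg1r : g1 ^ r = 1 := by
    apply hinj
    rw [map_pow, ← hmap, hyr, map_one]
  have hdy : finrank F (cm (lin y)) = 4 := (finrank_cm_conj B y).symm.trans hd
  -- the dimension over `F₁`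
  have hiso : Iso (0 : QuadraticForm F₁ (I8 → F₁)) (lin g1) r := by
    refine Iso.mk' hr1 (by have := hs.two_le; omega) ?_ (fun v => rfl)
    rw [← H251.GeoCard.toLin_pow, hg1r]
    exact lin_one
  have hdvd := hiso.dvd_cm hr1
  have hle : finrank F₁ (cm (lin g1)) ≤ 8 := by
    have h1 := Submodule.finrank_le (cm (lin g1))
    rw [Module.finrank_fintype_fun_eq_card] at h1
    simpa using h1
  have hs2 := hs.two_le
  rcases Nat.eq_zero_or_pos (finrank F₁ (cm (lin g1))) with h0 | h0
  · have h1 : cm (lin g1) = ⊥ := Submodule.finrank_eq_zero.1 h0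
    have h2 : g1 = 1 := by
      by_contra h3
      exact cm_ne_bot (lin_ne_one h3) h1
    rw [h2, map_one] at hmap
    rw [hmap, lin_one] at hdy
    have h3 : cm (1 : Module.End F (I8 → F)) = ⊥ := by
      unfold cm
      rw [sub_self]
      exact LinearMap.range_zero
    rw [h3, finrank_bot] at hdy
    omega
  · have h1 := Nat.le_of_dvd h0 hdvd
    have h2 : finrank F₁ (cm (lin g1)) = 8 := by omega
    have h3 : cm (lin g1) = ⊤ := by
      apply Submodule.eq_top_of_finrank_eq
      rw [h2, Module.finrank_fintype_fun_eq_card]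
      simp
    have h4 : lin g1 - 1 = Matrix.toLin' ((g1 : Matrix I8 I8 F₁) - 1) := by
      rw [map_sub, Matrix.toLin'_one]
      rfl
    have h5 : IsUnit ((g1 : Matrix I8 I8 F₁) - 1) := by
      rw [← isUnit_toLin', ← h4, LinearMap.isUnit_iff_range_eq_top]
      exact h3
    have h6 := h5.map (F₁.subtype : F₁ →+* F).mapMatrix
    have h7 : (F₁.subtype : F₁ →+* F).mapMatrix ((g1 : Matrix I8 I8 F₁) - 1) = (y : Matrix I8 I8 F) - 1 := by
      rw [map_sub, map_one, hmap]
      rfl
    rw [h7, ← isUnit_toLin', map_sub, Matrix.toLin'_one] at h6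
    have h8 : cm (lin y) = ⊤ := by
      unfold cm
      exact (LinearMap.isUnit_iff_range_eq_top _).1 h6
    rw [h8, finrank_top, Module.finrank_fintype_fun_eq_card] at hdy
    simp at hdy

end

end Cfsg.Agent.H781.O8
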