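import Cfsg.Agent.H781.O8.Subf

/-!
# COV-O8+: quadratic extension fields (piece G2, helper781)

`kill_field_A` : no quadratic field is normalised by a group of isometries with an element of type `A`.
-/

set_option autoImplicit false
set_option linter.unusedSectionVars false

namespace Cfsg.Agent.H781.O8

open Module QuadraticMap Polynomial Cfsg Cfsg.Geo Cfsg.Agent.LieClassical.OrthCore Cfsg.Agent.H955 Cfsg.Agent.H954.TSing
open Cfsg.Agent.H951 (fx cm Inv)
open Cfsg.Agent.H884.El
open Cfsg.Agent.H436 (Prim)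
open Cfsg.Agent.H708.O8 (I8 RB TypeA)
open scoped MatrixGroups Matrix

universe u v

/-! ### linear algebra -/

section Abs

variable {F : Type u} [Field F] [Fintype F] {V : Type v} [AddCommGroup V] [Module F V] [FiniteDimensional F V]
  {Q : QuadraticForm F V} {x : Module.End F V} {r e : ℕ}

/-- the commutator space is orthogonal to the fixed space -/
theorem polar_cm_fx (hQ : ∀ v, Q (x v) = Q v) {a b : V} (ha : a ∈ cm x) (hb : b ∈ fx x) : polar Q a b = 0 := by
  obtain ⟨c, rfl⟩ := H951.mem_cm.1 ha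
  have h1 := polar_isom hQ c b
  rw [H951.mem_fx.1 hb] at h1
  rw [polar_sub_left, h1, sub_self]

/-- the polynomials in `x` applied to a vector -/
noncomputable def cyc (x : Module.End F V) (v : V) : Submodule F V :=
  LinearMap.range ((LinearMap.applyₗ v).comp (aeval x : F[X] →ₐ[F] Module.End F V).toLinearMap)

theorem mem_cyc {v w : V} : w ∈ cyc x v ↔ ∃ P : F[X], aeval x P v = w := by
  unfold cyc
  rw [LinearMap.mem_range]
  rfl

theorem self_mem_cyc {v : V} : v ∈ cyc x v := mem_cyc.2 ⟨1, by rw [map_one]; rfl⟩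

theorem inv_cyc {v : V} : Inv x (cyc x v) := by
  intro w hw
  obtain ⟨P, rfl⟩ := mem_cyc.1 hw
  exact mem_cyc.2 ⟨X * P, by rw [map_mul, aeval_X]; rfl⟩

theorem cyc_le {v : V} {W : Submodule F V} (hW : Inv x W) (hv : v ∈ W) : cyc x v ≤ W := by
  intro w hw
  obtain ⟨P, rfl⟩ := mem_cyc.1 hw
  exact hW.aeval P v hv

/-- the commutator space of dimension `e` is cyclic -/
theorem cyc_eq (h : Iso Q x r) (hr : PP (Nat.card F) e r) (hd : finrank F (cm x) = e) {v : V} (hv : v ∈ cm x)
    (hv0 : v ≠ 0) : cyc x v = cm x := by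
  have h1 : cyc x v ≤ cm x := cyc_le H951.inv_cm hv
  have h2 := h.dvd hr (W := cyc x v) inv_cyc
  rw [inf_eq_left.2 h1] at h2
  refine Submodule.eq_of_le_of_finrank_eq h1 (le_antisymm (Submodule.finrank_mono h1) ?_)
  rw [hd]
  refine Nat.le_of_dvd (Nat.pos_of_ne_zero fun h0 => ?_) h2
  have h3 := Submodule.finrank_eq_zero.1 h0
  apply hv0
  rw [← Submodule.mem_bot (R := F), ← h3]
  exact self_mem_cyc

/-- an endomorphism commuting with `x` is a polynomial in `x` on a cyclic space -/
theorem exists_poly {k : Module.End F V} (hk : Commute k x) {v : V} (hkv : k v ∈ cyc x v) :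
    ∃ P : F[X], ∀ y ∈ cyc x v, k y = aeval x P y := by
  obtain ⟨P, hP⟩ := mem_cyc.1 hkv
  refine ⟨P, fun y hy => ?_⟩
  obtain ⟨R, rfl⟩ := mem_cyc.1 hy
  have h1 : Commute k (aeval x R) := by
    induction R using Polynomial.induction_on' with
    | add p q hp hq => rw [map_add]; exact (hp (mem_cyc.2 ⟨p, rfl⟩)).add_right (hq (mem_cyc.2 ⟨q, rfl⟩))
    | monomial n a =>
      rw [aeval_monomial]
      exact (Algebra.commute_algebraMap_right a k).mul_right (hk.pow_right n)
  have h2 : k (aeval x R v) = aeval x R (k v) := by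
    rw [← Module.End.mul_apply, h1.eq, Module.End.mul_apply]
  rw [h2, ← hP, ← Module.End.mul_apply, ← Module.End.mul_apply, ← map_mul, ← map_mul, mul_comm]

/-- the adjoint of a polynomial in `x` -/
theorem polar_aeval (hQ : ∀ v, Q (x v) = Q v) {n : ℕ} (hn : x ^ (n + 1) = 1) (P : F[X]) (a b : V) :
    polar Q (aeval x P a) b = polar Q a (aeval (x ^ n) P b) := by
  have h1 : ∀ a b : V, polar Q (x a) b = polar Q a ((x ^ n) b) := by
    intro a b
    rw [← polar_isom hQ a ((x ^ n) b), ← Module.End.mul_apply x, ← pow_succ', hn]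
    rfl
  have h2 : ∀ (m : ℕ) (a b : V), polar Q ((x ^ m) a) b = polar Q a (((x ^ n) ^ m) b) := by
    intro m
    induction m with
    | zero => intro a b; rfl
    | succ m ih =>
      intro a b
      rw [pow_succ', Module.End.mul_apply, h1, ih, ← Module.End.mul_apply, ← pow_succ]
  induction P using Polynomial.induction_on' with
  | add p q hp hq =>
    rw [map_add, map_add, LinearMap.add_apply, LinearMap.add_apply, polar_add_left, polar_add_right, hp, hq]
  | monomial m c =>
    rw [aeval_monomial, aeval_monomial, Module.End.mul_apply, Module.End.mul_apply, Module.algebraMap_end_apply,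
      Module.algebraMap_end_apply, polar_smul_left, polar_smul_right, h2]

/-- the Frobenius map on polynomials in `x` -/
theorem aeval_pow_card (P : F[X]) : aeval (x ^ Fintype.card F) P = aeval x P ^ Fintype.card F := by
  rw [← Polynomial.expand_aeval, FiniteField.expand_card, map_pow]

theorem aeval_pow_card_sq (P : F[X]) : aeval (x ^ (Fintype.card F ^ 2)) P = aeval x P ^ (Fintype.card F ^ 2) := by
  rw [_root_.sq, pow_mul, aeval_pow_card, aeval_pow_card, ← pow_mul]

/-- **The adjoint of an endomorphism commuting with `x` on the commutator space.** -/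
theorem polar_commute (h : Iso Q x r) (hr : PP (Nat.card F) e r) (hd : finrank F (cm x) = e)
    (hx : x ^ (Fintype.card F ^ 2 + 1) = 1) {k : Module.End F V} (hk : Commute k x)
    (hkq : k ^ (Fintype.card F ^ 2) = k) {v : V} (hv : v ∈ cm x) (y : V) : polar Q (k v) y = polar Q v (k y) := by
  have hkcm : ∀ v ∈ cm x, k v ∈ cm x := by
    intro v hv
    obtain ⟨c, rfl⟩ := H951.mem_cm.1 hv
    refine H951.mem_cm.2 ⟨k c, ?_⟩
    rw [map_sub, ← Module.End.mul_apply, ← hk.eq, Module.End.mul_apply]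
  have hkfx : ∀ v ∈ fx x, k v ∈ fx x := by
    intro v hv
    rw [H951.mem_fx, ← Module.End.mul_apply, ← hk.eq, Module.End.mul_apply, H951.mem_fx.1 hv]
  by_cases hv0 : v = 0
  · subst hv0
    rw [map_zero, polar_zero_left, polar_zero_left]
  have hc := cyc_eq h hr hd hv hv0
  obtain ⟨P, hP⟩ := exists_poly hk (v := v) (by rw [hc]; exact hkcm v hv)
  rw [hc] at hP
  have hpow : ∀ (n : ℕ) (y : V), y ∈ cm x → (aeval x P ^ n) y = (k ^ n) y ∧ (k ^ n) y ∈ cm x := by
    intro n
    induction n with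
    | zero => intro y hy; exact ⟨rfl, hy⟩
    | succ n ih =>
      intro y hy
      obtain ⟨h1, h2⟩ := ih y hy
      rw [pow_succ', pow_succ', Module.End.mul_apply, Module.End.mul_apply, h1]
      exact ⟨(hP _ h2).symm, hkcm _ h2⟩
  have hcm : ∀ y ∈ cm x, polar Q (k v) y = polar Q v (k y) := by
    intro y hy
    rw [hP v hv, polar_aeval h.iso hx, aeval_pow_card_sq, (hpow _ y hy).1, hkq]
  -- all vectors
  have hy : y ∈ fx x ⊔ cm x := by
    rw [(H951.isCompl_fx_cm h.ne0 h.pow).sup_eq_top]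
    exact Submodule.mem_top
  obtain ⟨y1, hy1, y2, hy2, rfl⟩ := Submodule.mem_sup.1 hy
  rw [map_add, polar_add_right, polar_add_right, hcm y2 hy2, polar_cm_fx h.iso (hkcm v hv) hy1,
    polar_cm_fx h.iso hv (hkfx y1 hy1)]

end Abs

/-! ### fields of matrices -/

section Mat

variable {ι : Type} [Fintype ι] [DecidableEq ι] {F : Type u} [Field F] [Fintype F] {Q : QuadraticForm F (ι → F)}
  {r e : ℕ}

/-- elements of odd order commute with a normalised quadratic field -/
theorem comm_odd [Nonempty ι] {K : Subalgebra F (Matrix ι ι F)} (hK : IsFieldSubalgebra 2 K)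
    {g : GL ι F} (hgK : g ∈ subalgebraNormalizer K) {n : ℕ} (hn : Odd n) (hgn : g ^ n = 1) :
    ∀ x ∈ K, (g : Matrix ι ι F) * x = x * (g : Matrix ι ι F) := by
  have hN : H912.NormAlg (subalgebraNormalizer K) K := fun _ hh a ha => (hh a).mp ha
  let _ : Field K := (H912.isField_of_fieldSub hK).toField
  have hfd : Module.Finite F K := inferInstance
  have hKfin : Finite K := Module.finite_of_finite F
  have hgal : IsGalois F K := inferInstance
  let σ : K ≃ₐ[F] K := H912.conjSub hN ⟨g, hgK⟩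
  have hσk : ∀ (k : ℕ) (x : K), (((σ ^ k) x : K) : Matrix ι ι F) =
      ((g ^ k : GL ι F) : Matrix ι ι F) * x * (((g ^ k)⁻¹ : GL ι F) : Matrix ι ι F) := by
    intro k
    induction k with
    | zero => intro x; simp
    | succ k ih =>
      intro x
      rw [pow_succ, AlgEquiv.mul_apply, ih, H912.conjSub_coe, pow_succ, _root_.mul_inv_rev, Units.val_mul,
        Units.val_mul]
      simp only [Matrix.mul_assoc]
  have hσs : σ ^ n = 1 := by
    apply AlgEquiv.ext
    intro x
    apply Subtype.ext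
    rw [hσk, hgn]
    simp
  have hσ1 : σ = 1 := by
    have h1 : orderOf σ ∣ n := orderOf_dvd_of_pow_eq_one hσs
    have h2 : orderOf σ ∣ 2 := by
      have h3 : Nat.card (K ≃ₐ[F] K) = 2 := by
        rw [IsGalois.card_aut_eq_finrank, hK.finrank_eq]
      rw [← h3]
      exact orderOf_dvd_natCard σ
    have h3 : Nat.Coprime n 2 := Nat.coprime_two_right.2 hn
    have h4 : orderOf σ ∣ 1 := by
      rw [← Nat.Coprime.gcd_eq_one h3]
      exact Nat.dvd_gcd h1 h2
    exact orderOf_eq_one_iff.1 (Nat.dvd_one.1 h4)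
  intro x hx
  have h1 := H912.conjSub_coe hN ⟨g, hgK⟩ ⟨x, hx⟩
  have h2 : (H912.conjSub hN ⟨g, hgK⟩ ⟨x, hx⟩ : K) = ⟨x, hx⟩ := by
    change σ ⟨x, hx⟩ = ⟨x, hx⟩
    rw [hσ1]; rfl
  rw [h2] at h1
  have h3 : x = (g : Matrix ι ι F) * x * ((g⁻¹ : GL ι F) : Matrix ι ι F) := h1
  conv_rhs => rw [h3]
  rw [Matrix.mul_assoc, ← Units.val_mul, inv_mul_cancel, Units.val_one, Matrix.mul_one]

/-- the elements of a quadratic field are fixed by the square of the Frobenius map -/
theorem pow_card_field [Nonempty ι] {K : Subalgebra F (Matrix ι ι F)} (hK : IsFieldSubalgebra 2 K)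
    {k : Matrix ι ι F} (hk : k ∈ K) : k ^ (Fintype.card F ^ 2) = k := by
  let _ : Field K := (H912.isField_of_fieldSub hK).toField
  have hfd : Module.Finite F K := inferInstance
  have hKfin : Finite K := Module.finite_of_finite F
  let _ : Fintype K := Fintype.ofFinite K
  have h1 : Fintype.card K = Fintype.card F ^ 2 := by
    rw [Module.card_eq_pow_finrank (K := F) (V := K), hK.finrank_eq]
  have h2 := FiniteField.pow_card (⟨k, hk⟩ : K)
  rw [h1] at h2
  exact congrArg Subtype.val h2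

/-- an element of a field of matrices which kills a nonzero vector is zero -/
theorem eq_zero_of_mulVec {s : ℕ} {K : Subalgebra F (Matrix ι ι F)} (hK : IsFieldSubalgebra s K) {k : Matrix ι ι F}
    (hk : k ∈ K) {v : ι → F} (hv : v ≠ 0) (h : k *ᵥ v = 0) : k = 0 := by
  by_contra hk0
  obtain ⟨k', -, hk'⟩ := hK.inv k hk hk0
  have h1 := mul_eq_one_comm.1 hk'
  apply hv
  rw [← Matrix.one_mulVec v, ← h1, ← Matrix.mulVec_mulVec, h, Matrix.mulVec_zero]

/-- **The field is self adjoint.** -/
theorem self_adj [Nonempty ι] (hQ : Nondeg Q) {K : Subalgebra F (Matrix ι ι F)} (hK : IsFieldSubalgebra 2 K)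
    (hadj : IsAdjointClosedFor (polar Q) K) {u : GL ι F} (h : Iso Q (lin u) r) (hr : PP (Nat.card F) e r)
    (hd : finrank F (cm (lin u)) = e) (he : e ≠ 0) (hx : lin u ^ (Fintype.card F ^ 2 + 1) = 1)
    (hcomm : ∀ x ∈ K, (u : Matrix ι ι F) * x = x * (u : Matrix ι ι F)) {k : Matrix ι ι F} (hk : k ∈ K)
    (a b : ι → F) : polar Q (k *ᵥ a) b = polar Q a (k *ᵥ b) := by
  obtain ⟨k', hk', hkk⟩ := hadj k hk
  have hne : ∃ v ∈ cm (lin u), v ≠ 0 := by
    by_contra hcon
    push Not at hcon
    have h1 : cm (lin u) = ⊥ := by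
      rw [eq_bot_iff]
      intro v hv
      exact (Submodule.mem_bot F).2 (hcon v hv)
    rw [h1, finrank_bot] at hd
    exact he hd.symm
  obtain ⟨v, hv, hv0⟩ := hne
  have hkc : Commute (Matrix.toLin' k) (lin u) := by
    show Matrix.toLin' k * Matrix.toLin' (u : Matrix ι ι F) = Matrix.toLin' (u : Matrix ι ι F) * Matrix.toLin' k
    rw [Module.End.mul_eq_comp, Module.End.mul_eq_comp, ← Matrix.toLin'_mul, ← Matrix.toLin'_mul, hcomm k hk]
  have hkq : Matrix.toLin' k ^ (Fintype.card F ^ 2) = Matrix.toLin' k := by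
    rw [← Matrix.toLin'_pow, pow_card_field hK hk]
  have h1 : ∀ y, polar Q (k *ᵥ v) y = polar Q v (k *ᵥ y) := by
    intro y
    have h2 := polar_commute h hr hd hx hkc hkq hv y
    rwa [Matrix.toLin'_apply, Matrix.toLin'_apply] at h2
  have h2 : (k' - k) *ᵥ v = 0 := by
    apply hQ
    intro y
    rw [Matrix.sub_mulVec, polar_sub_left, sub_eq_zero, QuadraticMap.polar_comm Q (k' *ᵥ v), ← hkk, h1, QuadraticMap.polar_comm Q v]
  have h3 := eq_zero_of_mulVec hK (K.sub_mem hk' hk) hv0 h2
  rw [hkk, sub_eq_zero.1 h3]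

/-- the line of the field through a vector -/
def line (K : Subalgebra F (Matrix ι ι F)) (v : ι → F) : K →ₗ[F] (ι → F) where
  toFun k := (k : Matrix ι ι F) *ᵥ v
  map_add' a b := by rw [Subalgebra.coe_add, Matrix.add_mulVec]
  map_smul' c a := by rw [Subalgebra.coe_smul, Matrix.smul_mulVec, RingHom.id_apply]

/-- **A self adjoint quadratic field does not commute with an isometry with a commutator space of dimension two.** -/
theorem no_line (hQ : Nondeg Q) {K : Subalgebra F (Matrix ι ι F)} (hK : IsFieldSubalgebra 2 K)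
    (hsa : ∀ k ∈ K, ∀ a b : ι → F, polar Q (k *ᵥ a) b = polar Q a (k *ᵥ b)) {w : GL ι F} {s : ℕ}
    (h : Iso Q (lin w) s) (hd : finrank F (cm (lin w)) = 2)
    (hcomm : ∀ x ∈ K, (w : Matrix ι ι F) * x = x * (w : Matrix ι ι F)) : False := by
  have hw : ∀ (k : Matrix ι ι F), k ∈ K → ∀ y, (w : Matrix ι ι F) *ᵥ (k *ᵥ y) = k *ᵥ ((w : Matrix ι ι F) *ᵥ y) := by
    intro k hk y
    rw [Matrix.mulVec_mulVec, Matrix.mulVec_mulVec, hcomm k hk]
  have hlw : ∀ y, lin w y = (w : Matrix ι ι F) *ᵥ y := fun y => Matrix.toLin'_apply _ _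
  have hne : ∃ v ∈ cm (lin w), v ≠ 0 := by
    by_contra hcon
    push Not at hcon
    have h1 : cm (lin w) = ⊥ := by
      rw [eq_bot_iff]
      intro v hv
      exact (Submodule.mem_bot F).2 (hcon v hv)
    rw [h1, finrank_bot] at hd
    omega
  obtain ⟨v, hv, hv0⟩ := hne
  have hkcm : ∀ k ∈ K, ∀ y ∈ cm (lin w), k *ᵥ y ∈ cm (lin w) := by
    intro k hk y hy
    obtain ⟨c, rfl⟩ := H951.mem_cm.1 hy
    refine H951.mem_cm.2 ⟨k *ᵥ c, ?_⟩
    rw [hlw, hlw, hw k hk, Matrix.mulVec_sub]
  have hinj : Function.Injective (line K v) := by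
    rw [injective_iff_map_eq_zero]
    intro k hk
    exact Subtype.ext (eq_zero_of_mulVec hK k.2 hv0 hk)
  have hrange : LinearMap.range (line K v) = cm (lin w) := by
    apply Submodule.eq_of_le_of_finrank_eq
    · rintro _ ⟨k, rfl⟩
      exact hkcm k k.2 v hv
    · rw [LinearMap.finrank_range_of_inj hinj, hK.finrank_eq, hd]
  -- `w = k` on the commutator space
  obtain ⟨k, hk⟩ : ∃ k : K, line K v k = lin w v := by
    rw [← LinearMap.mem_range, hrange]
    exact H951.inv_cm v hv
  have hkw : ∀ y ∈ cm (lin w), lin w y = (k : Matrix ι ι F) *ᵥ y := by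
    intro y hy
    rw [← hrange] at hy
    obtain ⟨k1, rfl⟩ := hy
    show lin w ((k1 : Matrix ι ι F) *ᵥ v) = (k : Matrix ι ι F) *ᵥ ((k1 : Matrix ι ι F) *ᵥ v)
    rw [hlw, hw _ k1.2, ← hlw, ← hk]
    show (k1 : Matrix ι ι F) *ᵥ ((k : Matrix ι ι F) *ᵥ v) = _
    rw [Matrix.mulVec_mulVec, Matrix.mulVec_mulVec, hK.comm _ k1.2 _ k.2]
  have hsq : ∀ y ∈ cm (lin w), lin w (lin w y) = y := by
    intro y hy
    have hwy : lin w y ∈ cm (lin w) := H951.inv_cm y hy
    have hwwy : lin w (lin w y) ∈ cm (lin w) := H951.inv_cm _ hwy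
    have h1 : ∀ t, polar Q (lin w (lin w y) - y) t = 0 := by
      intro t
      have ht : t ∈ fx (lin w) ⊔ cm (lin w) := by
        rw [(H951.isCompl_fx_cm h.ne0 h.pow).sup_eq_top]
        exact Submodule.mem_top
      obtain ⟨t1, ht1, t2, ht2, rfl⟩ := Submodule.mem_sup.1 ht
      rw [polar_add_right, polar_cm_fx h.iso (sub_mem hwwy hy) ht1, zero_add, polar_sub_left, sub_eq_zero]
      rw [← polar_isom h.iso y t2, hkw _ hwy, hsa _ k.2, ← hkw _ ht2]
    exact sub_eq_zero.1 (hQ _ h1)
  have hodd : Odd s := h.prime.odd_of_ne_two (by have := h.two_lt; omega)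
  obtain ⟨j, hj⟩ := hodd
  have h2 : ∀ (n : ℕ) (y : ι → F), y ∈ cm (lin w) → (lin w ^ (2 * n)) y = y := by
    intro n
    induction n with
    | zero => intro y _; rfl
    | succ n ih =>
      intro y hy
      rw [show 2 * (n + 1) = 2 * n + 1 + 1 by ring, pow_succ, pow_succ, Module.End.mul_apply, Module.End.mul_apply,
        hsq y hy, ih y hy]
  have h3 : lin w v = v := by
    have h4 : (lin w ^ s) v = v := by rw [h.pow]; rfl
    rw [hj, pow_succ', Module.End.mul_apply, h2 j v hv] at h4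
    exact h4
  have h4 : v ∈ cm (lin w) ⊓ fx (lin w) := ⟨hv, H951.mem_fx.2 h3⟩
  rw [H951.inf_fx_of_le_cm h.ne0 h.pow le_rfl] at h4
  exact hv0 ((Submodule.mem_bot F).1 h4)

end Mat

/-! ### the theorem -/

section

variable {F : Type} [Field F] [Fintype F] {p a r b : ℕ}

/-- **No quadratic field is normalised by a group with an element of type `A`.** -/
theorem kill_field_A (hF : Nat.card F = p ^ a) (h : RB p a r b) {K : Subalgebra F (Matrix I8 I8 F)}
    (hK : IsFieldSubalgebra 2 K) (hadj : IsAdjointClosedFor (polar (quadFormPlus 4 F)) K) {H : Subgroup (GL I8 F)}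
    (hH : H ≤ isometryGroup F (quadFormPlus 4 F)) (hHK : H ≤ subalgebraNormalizer K) {u w : GL I8 F} {s : ℕ}
    (hA : TypeA u w r s) (hu : u ∈ H) (hw : w ∈ H) : False := by
  have hr4 := RB.pp4 hF h
  have hq := Finite.one_lt_card (α := F)
  have hwc := comm_odd hK (hHK hw) hA.odd hA.w_pow
  rcases hA.sharp with h1 | ⟨hs, hd⟩
  · -- the rank of `(w - 1)²` is one
    have h2 := even_of_field hK (W := LinearMap.range ((lin w - 1) ^ 2)) (fun k hk y hy => by
      obtain ⟨c, rfl⟩ := hy
      refine ⟨k *ᵥ c, ?_⟩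
      have h3 : ∀ y, (lin w - 1) (k *ᵥ y) = k *ᵥ ((lin w - 1) y) := by
        intro y
        rw [LinearMap.sub_apply, LinearMap.sub_apply, Module.End.one_apply, Module.End.one_apply, lin,
          Matrix.toLin'_apply, Matrix.toLin'_apply, Matrix.mulVec_sub, Matrix.mulVec_mulVec, Matrix.mulVec_mulVec,
          hwc k hk]
      rw [pow_two, Module.End.mul_apply, Module.End.mul_apply, h3, h3])
    rw [h1] at h2
    exact absurd h2 (by decide)
  · rw [← LieClassical.OmegaReindex.coe_quadPlus] at hadj hH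
    have hQ : Nondeg (LieClassical.OmegaReindex.quadPlus 4 F) :=
      nondeg_iff.2 LieClassical.OmegaReindex.quadPlus_nondegenerate
    have hrodd : Odd r := hr4.odd (by omega)
    have huc := comm_odd hK (hHK hu) hrodd hA.u_pow
    have hup : lin u ^ r = 1 := by
      rw [← H251.GeoCard.toLin_pow, hA.u_pow]
      exact lin_one
    have hwp : lin w ^ s = 1 := by
      rw [← H251.GeoCard.toLin_pow, hA.w_pow]
      exact lin_one
    have hiu : Iso (LieClassical.OmegaReindex.quadPlus 4 F) (lin u) r := Iso.mk' hr4 (by omega) hup (lin_iso hH hu)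
    have hiw : Iso (LieClassical.OmegaReindex.quadPlus 4 F) (lin w) s := Iso.mk' hs le_rfl hwp (lin_iso hH hw)
    -- `r ∣ q² + 1`
    have hrd : r ∣ Fintype.card F ^ 2 + 1 := by
      rw [← Nat.card_eq_fintype_card]
      have h2 : r ∣ Nat.card F ^ 4 - 1 := (hr4.dvd_iff (by omega) 4).2 dvd_rfl
      have h3 : ¬ r ∣ Nat.card F ^ 2 - 1 := fun h3 => by
        have := (hr4.dvd_iff (by omega) 2).1 h3
        omega
      have e : Nat.card F ^ 4 - 1 = (Nat.card F ^ 2 - 1) * (Nat.card F ^ 2 + 1) := by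
        have h5 : 1 ≤ Nat.card F ^ 2 := Nat.one_le_pow _ _ (by omega)
        obtain ⟨x, hx⟩ := Nat.exists_eq_add_of_le h5
        have h6 : Nat.card F ^ 4 = (Nat.card F ^ 2) ^ 2 := by ring
        rw [h6, hx, Nat.add_sub_cancel_left]
        apply Nat.sub_eq_of_eq_add
        ring
      rw [e] at h2
      rcases (Nat.Prime.dvd_mul h.prim.prime).1 h2 with h4 | h4
      · exact absurd h4 h3
      · exact h4
    have hx : lin u ^ (Fintype.card F ^ 2 + 1) = 1 := by
      obtain ⟨c, hc⟩ := hrd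
      rw [hc, pow_mul, hup, one_pow]
    refine no_line hQ hK (fun k hk a b => ?_) hiw hd hwc
    exact self_adj hQ hK hadj hiu hr4 hA.u_dim (by omega) hx huc hk a b

end

end Cfsg.Agent.H781.O8
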