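import Cfsg.Agent.H781.O8.FieldA

/-!
# COV-O8+: elements of type `A` (helper781)

`exists_typeA` : `u` of order `r` with `dim [V, u] = 4`; `w` an Eichler transformation of `fix u` (`q` odd) or an element of
prime order `l ∣ q + 1` with `dim [V, w] = 2` (`q` even).
-/

set_option autoImplicit false
set_option linter.unusedSectionVars false

namespace Cfsg.Agent.H781.O8

open Module QuadraticMap Cfsg Cfsg.Geo Cfsg.Agent.LieClassical.OrthCore Cfsg.Agent.H955 Cfsg.Agent.H954.TSing
open Cfsg.Agent.H951 (fx cm Inv)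
open Cfsg.Agent.H884.El
open Cfsg.Agent.H436 (Prim)
open Cfsg.Agent.H708.O8 (I8 RB TypeA)
open scoped MatrixGroups Matrix

universe u v

section Eich

variable {F : Type u} [Field F] {V : Type v} [AddCommGroup V] [Module F V] (Q : QuadraticForm F V)

/-- the nilpotent part of the Eichler transformation -/
def eN (e a : V) : Module.End F V where
  toFun v := polar Q v e • a - (polar Q v a + Q a * polar Q v e) • e
  map_add' x y := by
    rw [polar_add_left, polar_add_left]
    module
  map_smul' c x := by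
    simp only [RingHom.id_apply]
    rw [polar_smul_left, polar_smul_left, smul_eq_mul, smul_eq_mul]
    module

variable {Q} {e a : V}

theorem eN_apply (v : V) : eN Q e a v = polar Q v e • a - (polar Q v a + Q a * polar Q v e) • e := rfl

theorem polar_self' (v : V) : polar Q v v = 2 * Q v := by
  rw [QuadraticMap.polar_self, nsmul_eq_mul]
  norm_num

theorem eN_e (he : Q e = 0) (hea : polar Q e a = 0) : eN Q e a e = 0 := by
  rw [eN_apply, polar_self', he, hea]
  simp

theorem eN_a (hea : polar Q e a = 0) : eN Q e a a = -(2 * Q a) • e := by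
  rw [eN_apply, polar_self', polar_comm, hea]
  module

theorem eN_sq (he : Q e = 0) (hea : polar Q e a = 0) (v : V) :
    (eN Q e a ^ 2) v = -(2 * Q a * polar Q v e) • e := by
  rw [pow_two, Module.End.mul_apply, eN_apply (a := a) v, map_sub, map_smul, map_smul, eN_e he hea, eN_a hea]
  module

theorem eN_cube (he : Q e = 0) (hea : polar Q e a = 0) : eN Q e a ^ 3 = 0 := by
  refine LinearMap.ext fun v => ?_
  rw [pow_succ', Module.End.mul_apply, eN_sq he hea, map_smul, eN_e he hea, smul_zero]
  rfl

theorem Q_eich (he : Q e = 0) (hea : polar Q e a = 0) (v : V) : Q (v + eN Q e a v) = Q v := by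
  rw [eN_apply]
  set β := polar Q v e with hβ
  set α := polar Q v a with hα
  have h1 : v + (β • a - (α + Q a * β) • e) = (v + β • a) + (-(α + Q a * β)) • e := by module
  rw [h1, Q_add, Q_add, QuadraticMap.map_smul, QuadraticMap.map_smul, he, polar_add_left, polar_smul_right,
    polar_smul_right, polar_smul_left, polar_smul_right, polar_comm Q a e, hea, ← hβ, ← hα]
  simp only [smul_eq_mul]
  ring

/-- Eichler transformations -/
theorem exists_eich [FiniteDimensional F V] {p : ℕ} [CharP F p] (hp : p.Prime) (hp2 : p ≠ 2) (hQ : Nondeg Q)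
    (he0 : e ≠ 0) (he : Q e = 0) (hea : polar Q e a = 0) (ha : Q a ≠ 0) :
    ∃ T : V ≃ₗ[F] V, T ∈ O Q ∧ T ^ p = 1 ∧ (∀ v, T v = v + eN Q e a v) ∧
      finrank F (LinearMap.range (((T : Module.End F V) - 1) ^ 2)) = 1 := by
  have : Fact p.Prime := ⟨hp⟩
  have : Nontrivial V := ⟨e, 0, he0⟩
  have : CharP (Module.End F V) p := charP_of_injective_algebraMap (algebraMap F (Module.End F V)).injective p
  have hp3 : 3 ≤ p := by have := hp.two_le; omega
  have h2 : (2 : F) ≠ 0 := by
    intro h
    have h1 : ((2 : ℕ) : F) = 0 := by exact_mod_cast h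
    have h3 := (CharP.cast_eq_zero_iff F p 2).1 h1
    have := Nat.le_of_dvd (by norm_num) h3
    omega
  have hN : eN Q e a ^ p = 0 := by
    rw [← Nat.add_sub_cancel' hp3, pow_add, eN_cube he hea, zero_mul]
  have h1 : (1 + eN Q e a) ^ p = 1 := by
    rw [add_pow_char_of_commute _ (Commute.one_left _), one_pow, hN, add_zero]
  have h3 : (1 + eN Q e a) * (1 + eN Q e a) ^ (p - 1) = 1 := by
    rw [← pow_succ', Nat.sub_add_cancel (by omega), h1]
  have h4 : (1 + eN Q e a) ^ (p - 1) * (1 + eN Q e a) = 1 := by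
    rw [← pow_succ, Nat.sub_add_cancel (by omega), h1]
  let T : V ≃ₗ[F] V := LinearEquiv.ofLinearMap (1 + eN Q e a) ((1 + eN Q e a) ^ (p - 1)) h3 h4
  have hT : (T : Module.End F V) = 1 + eN Q e a := rfl
  have hTv : ∀ v, T v = v + eN Q e a v := fun v => rfl
  refine ⟨T, fun v => ?_, ?_, hTv, ?_⟩
  · rw [hTv]
    exact Q_eich he hea v
  · apply LinearEquiv.toLinearMap_injective
    have h5 : ∀ n : ℕ, ((T ^ n : V ≃ₗ[F] V) : Module.End F V) = (1 + eN Q e a) ^ n := by
      intro n
      induction n with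
      | zero => rfl
      | succ n ih =>
        rw [pow_succ (1 + eN Q e a), ← ih, pow_succ T]
        rfl
    show ((T ^ p : V ≃ₗ[F] V) : Module.End F V) = _
    rw [h5, h1]
    rfl
  · rw [hT, add_sub_cancel_left]
    have h5 : LinearMap.range (eN Q e a ^ 2) = Submodule.span F {e} := by
      apply le_antisymm
      · rintro _ ⟨v, rfl⟩
        rw [eN_sq he hea]
        exact Submodule.smul_mem _ _ (Submodule.mem_span_singleton_self e)
      · rw [Submodule.span_singleton_le_iff_mem]
        obtain ⟨v, hv⟩ : ∃ v, polar Q v e ≠ 0 := by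
          by_contra hcon
          push Not at hcon
          exact he0 (hQ e fun v => by rw [polar_comm]; exact hcon v)
        refine ⟨(-(2 * Q a * polar Q v e))⁻¹ • v, ?_⟩
        rw [map_smul, eN_sq he hea, smul_smul, inv_mul_cancel₀, one_smul]
        exact neg_ne_zero.2 (mul_ne_zero (mul_ne_zero h2 ha) hv)
    rw [h5]
    exact finrank_span_singleton he0

end Eich

/-! ### numbers -/

theorem pp_two {q l : ℕ} (hl : l.Prime) (hl2 : l ≠ 2) (h : l ∣ q + 1) : PP q 2 l := by
  have := Fact.mk hl
  refine ⟨hl, ?_⟩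
  have h1 : (q : ZMod l) = -1 := by
    have h2 : ((q + 1 : ℕ) : ZMod l) = 0 := (ZMod.natCast_eq_zero_iff _ _).2 h
    push_cast at h2
    exact eq_neg_of_add_eq_zero_left h2
  rw [h1]
  have : Fact (2 < l) := ⟨by have := hl.two_le; omega⟩
  exact orderOf_eq_prime (by ring) (ZMod.neg_one_ne_one)

section ext

variable {F : Type u} [Field F] {V : Type v} [AddCommGroup V] [Module F V] [FiniteDimensional F V]
  {Q : QuadraticForm F V}

theorem comS_ext1' {U : Submodule F V} (h : Nondeg (res Q U)) (T : U ≃ₗ[F] U) :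
    comS (ext1 h T) = (comS T).map U.subtype := by
  ext v
  constructor
  · intro hv
    obtain ⟨y, rfl⟩ := mem_comS.1 hv
    obtain ⟨a, b, rfl⟩ := exists_add_perp h y
    refine ⟨T a - a, mem_comS.2 ⟨a, rfl⟩, ?_⟩
    rw [map_add, ext1_left, ext1_right h T b.2, add_sub_add_right_eq_sub]
    rfl
  · rintro ⟨y, hy, rfl⟩
    obtain ⟨a, rfl⟩ := mem_comS.1 hy
    refine mem_comS.2 ⟨(a : V), ?_⟩
    rw [ext1_left]
    rfl

end ext

/-! ### the theorem -/

section

variable {F : Type} [Field F] [Fintype F] {p a r b : ℕ}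

/-- **Elements of type `A`.** -/
theorem exists_typeA (hF : Nat.card F = p ^ a) (h : RB p a r b) : ∃ u w s, TypeA (F := F) u w r s := by
  have hr4 := RB.pp4 hF h
  have hq := Finite.one_lt_card (α := F)
  have : Fact p.Prime := ⟨h.hp⟩
  have : CharP F p := charP_of_card_eq_prime_pow (f := a) (by rw [← Nat.card_eq_fintype_card]; exact hF)
  have hQ : Nondeg (LieClassical.OmegaReindex.quadPlus 4 F) :=
    nondeg_iff.2 LieClassical.OmegaReindex.quadPlus_nondegenerate
  obtain ⟨Q, hQQ⟩ : ∃ Q, Q = LieClassical.OmegaReindex.quadPlus 4 F := ⟨_, rfl⟩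
  have hcoe : ⇑Q = quadFormPlus 4 F := by rw [hQQ, LieClassical.OmegaReindex.coe_quadPlus]
  rw [← hQQ] at hQ
  obtain ⟨u, hu, hur, hu1, hud⟩ := exists_g (A := 1) hQ hr4 (by decide) (by norm_num) le_rfl
    (Or.inl ⟨by decide, Or.inl (by decide)⟩)
  rw [mul_one] at hud
  have hiu : Iso Q (lin u) r := by
    refine Iso.mk' hr4 (by omega) ?_ (lin_iso le_rfl hu)
    rw [← H251.GeoCard.toLin_pow, hur]
    exact lin_one
  have hU : Nondeg (res Q (fx (lin u))) := nondeg_fx hQ hiu.iso hiu.ne0 hiu.pow
  have hUd : finrank F (fx (lin u)) = 4 := by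
    have h1 := hiu.finrank_add
    rw [hud, finrank_V] at h1
    rw [show Fintype.card (Fin 4 ⊕ Fin 4) = 8 by decide] at h1
    omega
  have hperp : perp Q (fx (lin u)) = cm (lin u) := by
    rw [← perp_cm hQ hiu.iso hiu.ne0 hiu.pow, perp_perp hQ]
  have hufx : ∀ {v}, v ∈ fx (lin u) → lin u v = v := fun hv => H951.mem_fx.1 hv
  have hpa : p ∣ Nat.card F := by rw [hF]; exact dvd_pow_self _ (by have := h.ha; omega)
  -- the order of `F`
  rcases eq_or_ne p 2 with rfl | hp2
  · -- even characteristic
    obtain ⟨l, hl, hlq⟩ := Nat.exists_prime_and_dvd (n := Nat.card F + 1) (by omega)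
    have hl2 : l ≠ 2 := by
      rintro rfl
      omega
    have hpp := pp_two hl hl2 hlq
    have := Fact.mk hl
    have hl3 : 2 < l := by have := hl.two_le; omega
    have hord : orderOf (Fintype.card F : ZMod l) = 2 := by rw [← Nat.card_eq_fintype_card]; exact hpp.ord
    obtain ⟨T, hT, hTl, hT1, hTd, -⟩ := exists_sharp (Q := res Q (fx (lin u))) (r := l) (A := 1) hl3
      (hpp.ne0 (by norm_num)) (by rw [hord]; decide) hU le_rfl (Or.inl ⟨by rw [hUd]; decide, Or.inl (by
        rw [hord, hUd]; norm_num)⟩)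
    rw [hord] at hTd
    obtain ⟨w, hw, hwl, hw1, hwT⟩ := exists_matrix (ext1_mem_O hU hT) (ext1_pow hU hTl) (by
      intro h1
      apply hT1
      refine LinearEquiv.ext fun y => Subtype.ext ?_
      rw [← ext1_left hU T y, h1]
      rfl)
    have hwv : ∀ v, lin w v = ext1 hU T v := fun v => by rw [hwT]; rfl
    refine ⟨u, w, l, ?_⟩
    have htriv : ∀ v ∈ cm (lin u), lin w v = v := by
      intro v hv
      rw [hwv, ext1_right hU T (by rw [hperp]; exact hv)]
    refine ⟨by rwa [← hcoe], by rwa [← hcoe], hur, hu1, hud, ?_, htriv, hwl, hl.odd_of_ne_two hl2, ?_, ?_, ?_⟩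
    · apply lin_injective
      refine LinearMap.ext fun v => ?_
      have hmul : ∀ (x y : GL I8 F) v, lin (x * y) v = lin x (lin y v) := by
        intro x y v
        rw [lin, lin, lin, Units.val_mul, Matrix.toLin'_mul, LinearMap.comp_apply]
      rw [hmul, hmul]
      have hv : v ∈ fx (lin u) ⊔ cm (lin u) := by
        rw [(H951.isCompl_fx_cm hiu.ne0 hiu.pow).sup_eq_top]
        exact Submodule.mem_top
      obtain ⟨x, hx, y, hy, rfl⟩ := Submodule.mem_sup.1 hv
      rw [map_add, map_add, map_add, map_add, htriv y hy, hufx hx, htriv _ (H951.inv_cm y hy)]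
      congr 1
      rw [hwv]
      have h1 := ext1_left hU T ⟨x, hx⟩
      change ext1 hU T x = _ at h1
      rw [h1]
      exact hufx (T ⟨x, hx⟩).2
    · exact (Nat.coprime_primes h.prim.prime hl).2 (hr4.ne_of_ne hpp (by norm_num))
    · rintro (h1 | h1)
      · rw [h1] at hlq
        have : l ∣ 3 := hlq
        exact ⟨(Nat.prime_dvd_prime_iff_eq hl Nat.prime_three).1 this, hw1⟩
      · rw [h1] at hpa
        omega
    · right
      refine ⟨hpp, ?_⟩
      rw [hwT, cm_coe, comS_ext1', H955.finrank_map_of_injective _ (Submodule.subtype_injective _)]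
      exact hTd
  · -- odd characteristic: Eichler transformations
    obtain ⟨e, he0, he⟩ := exists_singular (res Q (fx (lin u))) (by omega)
    have he0' : (e : I8 → F) ≠ 0 := fun h1 => he0 (Subtype.ext h1)
    obtain ⟨c, hc, hcQ⟩ : ∃ c ∈ perp (res Q (fx (lin u))) (Submodule.span F {e}), res Q (fx (lin u)) c ≠ 0 := by
      by_contra hcon
      push Not at hcon
      have h1 := two_mul_finrank_le hU hcon
      have h2 := finrank_add_perp hU (Submodule.span F {e})
      rw [finrank_span_singleton he0] at h2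
      omega
    have hec : polar Q (e : I8 → F) c = 0 := by
      have := hc e (Submodule.mem_span_singleton_self e)
      rwa [polar_res] at this
    obtain ⟨T, hT, hTp, hTv, hTr⟩ := exists_eich (Q := Q) (e := (e : I8 → F)) (a := (c : I8 → F)) h.hp hp2 hQ he0' he
      hec hcQ
    obtain ⟨w, hw, hwp, hw1, hwT⟩ := exists_matrix hT hTp (by
      intro h1
      rw [h1] at hTr
      have h2 : (((1 : (I8 → F) ≃ₗ[F] (I8 → F)) : Module.End F (I8 → F)) - 1) ^ 2 = 0 := by
        rw [show ((1 : (I8 → F) ≃ₗ[F] (I8 → F)) : Module.End F (I8 → F)) = 1 from rfl, sub_self]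
        exact zero_pow (by norm_num)
      rw [h2, LinearMap.range_zero, finrank_bot] at hTr
      omega)
    have hwv : ∀ v, lin w v = v + eN Q (e : I8 → F) c v := fun v => by rw [hwT]; exact hTv v
    refine ⟨u, w, p, by rwa [← hcoe], by rwa [← hcoe], hur, hu1, hud, ?_, ?_, hwp, h.hp.odd_of_ne_two hp2, ?_, ?_,
      Or.inl (by rw [hwT]; exact hTr)⟩
    · apply lin_injective
      refine LinearMap.ext fun v => ?_
      have hmul : ∀ (x y : GL I8 F) v, lin (x * y) v = lin x (lin y v) := by
        intro x y v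
        rw [lin, lin, lin, Units.val_mul, Matrix.toLin'_mul, LinearMap.comp_apply]
      have h1 : ∀ (x : fx (lin u)) v, polar Q (lin u v) (x : I8 → F) = polar Q v x := by
        intro x v
        conv_lhs => rw [← hufx x.2]
        exact polar_isom hiu.iso v x
      rw [hmul, hmul, hwv, hwv, map_add, eN_apply, eN_apply, map_sub, map_smul, map_smul, hufx e.2, hufx c.2, h1, h1]
    · intro v hv
      rw [hwv, eN_apply, polar_cm_fx hiu.iso hv e.2, polar_cm_fx hiu.iso hv c.2]
      simp
    · refine (Nat.coprime_primes h.prim.prime h.hp).2 ?_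
      rintro rfl
      exact h.prim.not_dvd dvd_rfl
    · rintro (h1 | h1)
      · rw [h1] at hpa
        exact absurd ((Nat.prime_dvd_prime_iff_eq h.hp Nat.prime_two).1 hpa) hp2
      · rw [h1] at hpa
        exact ⟨(Nat.prime_dvd_prime_iff_eq h.hp Nat.prime_three).1 hpa, hw1⟩

end

end Cfsg.Agent.H781.O8
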